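import Groth.Agent.Lib.KLDim13.Split
import Groth.Agent.Lib.RR22.Poly
import Groth.Agent.Lib.Hilb13.Segment
import Groth.Agent.Lib.Ample18.Ample
import Groth.Agent.Lib.ShStab28.Sheaf
import Groth.Agent.Lib.MumVan22.Kernel

/-!
# The dimension of `K(L)` is the multiplicity of zero as a root of the Hilbert polynomial
-/

universe u

open CategoryTheory Limits MonoidalCategory CartesianMonoidalCategory AlgebraicGeometry TopologicalSpace Opposite
open scoped MonObj GrpObj

set_option autoImplicit false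
set_option linter.style.haveILetI false
set_option linter.unusedSectionVars false
set_option maxHeartbeats 1000000
set_option backward.isDefEq.respectTransparency false
set_option backward.isDefEq.respectTransparency.types false

noncomputable section

namespace Groth.Agent.KLDim13

open AlgEquiv22 MumVan22 Index22 CubeField Hilb13

noncomputable local instance instLawKLDimMain13 (Y : Scheme.{u}) : PicGrp.Law Y := M2.law Y

variable {k : Type u} [Field k]

/-- The Hilbert polynomial exists. -/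
theorem exists_hilbert {A : Over (Spec (CommRingCat.of k))} [GrpObj A] [IsProper A.hom] [GeometricallyIntegral A.hom]
    {L H : A.left.Modules} (hL : PicF.IsInvertible L) (hH : PicF.IsInvertible H) :
    ∃ P : Polynomial ℚ, ∀ n : ℕ, P.eval (n : ℚ) = (chi (CohB1.tensorMod L (CohB1.tensorPow H n)) : ℚ) := by
  letI : A.left.Over (Spec (CommRingCat.of k)) := ⟨A.hom⟩
  haveI : IsProper (A.left ↘ Spec (CommRingCat.of k)) := inferInstanceAs (IsProper A.hom)
  obtain ⟨g, hg⟩ := Index22.exists_dim (A := A)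
  obtain ⟨P, -, hPe⟩ := Snapper.snapper (k := k) (X := A.left) g L (Snapper.isCoh_of_isInvertible hL)
    (Topology.IsInducing.subtypeVal.topologicalKrullDim_le.trans hg.le) 1 (fun _ => H) (fun _ => hH)
  refine ⟨MvPolynomial.aeval (fun _ : Fin 1 => (Polynomial.X : Polynomial ℚ)) P, fun n => ?_⟩
  rw [eval_aeval']
  refine Eq.trans ?_ (((hPe fun _ => n).symm).trans
    (congrArg Int.cast (CurveCoh17.euler_iso (M2.tensorIso (Iso.refl L) (M2.tensorRUnit (CohB1.tensorPow H n))))))
  exact congrArg (fun f => MvPolynomial.eval f P) (funext fun _ => by simp)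

variable [IsAlgClosed k] {A : Over (Spec (CommRingCat.of k))} [GrpObj A] [IsProper A.hom]
  [GeometricallyIntegral A.hom]

/-- A nondegenerate class has nonzero Euler characteristic. -/
theorem chi_ne_zero_of_nd {L : A.left.Modules} (hL : PicF.IsInvertible L) (h : Nd (PicGrp.cls L hL)) :
    chi L ≠ 0 := by
  letI : A.left.Over (Spec (CommRingCat.of k)) := ⟨A.hom⟩
  haveI : IsProper (A.left ↘ Spec (CommRingCat.of k)) := inferInstanceAs (IsProper A.hom)
  obtain ⟨g, hg⟩ := Index22.exists_dim (A := A)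
  obtain ⟨D, hD, e⟩ := M2.exists_inverse hL
  obtain ⟨i, -, hi, -⟩ := Index22.exists_index hL h hD e hg
  exact hi.euler_ne_zero (Snapper.isCoh_of_isInvertible hL)

theorem chi_translate {N : A.left.Modules} (hN : PicF.IsInvertible N)
    (a : 𝟙_ (Over (Spec (CommRingCat.of k))) ⟶ A) {W : A.left.Modules} (hW : PicF.IsInvertible W)
    (h : PicGrp.cls W hW = pb (tr a) (PicGrp.cls N hN)) : chi W = chi N := by
  haveI := isIso_tr a
  rw [chi_congr hW (PicLoc.isInvertible_pullback (tr a).left hN) (h.trans (PicGrp.pullHom_cls _ _ _ _)), chi,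
    IsogEuler22.euler_pullback (tr a) 1 (fun y => by rw [Scheme.Hom.finrank_eq_one_of_isIso]; rfl)
      (CubeField.isCoh_of_isInvertible hN), Nat.cast_one, _root_.one_mul]

/-- On the part killed by `φ_L`, an invariant class times `H^n` has Euler characteristic `n^r χ(H)`. -/
theorem chi_inv_tensor_pow {H : A.left.Modules} (hH : CohB1.IsAmple H) {c : PicLoc.PicSet A.left} (hc : Inv c)
    {g : ℕ} (hg : topologicalKrullDim A.left = g) {n : ℕ} (hn : 0 < n) {W : A.left.Modules}
    (hW : PicF.IsInvertible W) (h : PicGrp.cls W hW = c * PicGrp.cls H hH.1 ^ n) :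
    chi W = (n : ℤ) ^ g * chi H := by
  obtain ⟨M, hM, rfl⟩ := PicGrp.exists_eq_cls c
  have hP := M2.isInvertible_tensorPow hH.1 n
  obtain ⟨a, ha⟩ := exists_translate hP hM hc (finite_fixing ((Amp.isAmple_tensorPow_iff hH.1 hn).2 hH))
  rw [chi_translate hP a hW (h.trans (by rw [← ha, cls_pow hH.1, inv_mul_cancel_right])), chi_pow hH.1 hg hn]

/-- The Euler characteristics of a class times powers of `H` on an isogenous product. -/
theorem dim_eq_rootMultiplicity {L H : A.left.Modules} (hL : PicF.IsInvertible L) (hH : CohB1.IsAmple H)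
    {Φ : Polynomial ℚ} (hΦ : ∀ n : ℕ, Φ.eval (n : ℚ) = (chi (CohB1.tensorMod L (CohB1.tensorPow H n)) : ℚ))
    {Z : Set A.left} (hZc : IsClosed Z)
    (hZ : ∀ a : 𝟙_ (Over (Spec (CommRingCat.of k))) ⟶ A, rpt a ∈ Z ↔ phi (PicGrp.cls L hL) a = 1) :
    topologicalKrullDim Z = ((Φ.rootMultiplicity 0 : ℕ) : WithBot ℕ∞) := by
  classical
  haveI := isCommMonObj_of_isProper_of_geometricallyIntegral A
  set cL := PicGrp.cls L hL with hcLdef
  set cH := PicGrp.cls H hH.1
  have hdiv : ∀ a b : 𝟙_ (Over (Spec (CommRingCat.of k))) ⟶ A, rpt a ∈ Z → rpt b ∈ Z → rpt (a * b⁻¹) ∈ Z := by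
    intro a b ha hb
    rw [hZ] at ha hb ⊢
    rw [map_mul, map_inv, ha, hb, inv_one, _root_.mul_one]
  obtain ⟨B, gB, pB, iB, i, hi, hic, hiZ, hiB⟩ := exists_subgroup_full hZc ((hZ 1).2 (map_one _)) hdiv
  haveI := hi
  haveI := hic
  obtain ⟨r, hr⟩ := Index22.exists_dim (A := B)
  have hZr : topologicalKrullDim Z = r := hiB.symm.trans hr
  rw [hZr]
  -- the polarisation on `B` and the complement
  set HB := (Scheme.Modules.pullback i.left).obj H
  have hHB : CohB1.IsAmple HB := Amp.isAmple_pullback_of_isAffineHom i.left hH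
  have hHBc : PicGrp.cls HB hHB.1 = pb i cH := (PicGrp.pullHom_cls _ _ _ _).symm
  have hndB : Nd (pb i cH) := hHBc ▸ finite_fixing hHB
  obtain ⟨C, gC, pC, iC, j, hj, -, hσ, hf, hfl, hs, hbox⟩ := exists_complement i cH hndB
  haveI := hj
  haveI := hσ
  haveI := hf
  haveI := hfl
  haveI := hs
  haveI : IsProper (B ⊗ C).hom := inferInstanceAs (IsProper (pullback.fst B.hom C.hom ≫ B.hom))
  haveI : GeometricallyIntegral (B ⊗ C).hom := AbRigid.geometricallyIntegral_tensorObj B C
  set σ := (fst B C ≫ i) * (snd B C ≫ j) with hσdef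
  -- `φ_L` kills the points of `B`
  have hphiB : ∀ b : 𝟙_ (Over (Spec (CommRingCat.of k))) ⟶ B, phi cL (b ≫ i) = 1 := fun b =>
    (hZ _).1 (by rw [rpt_comp]; exact hiZ ⟨_, rfl⟩)
  have hInvB : Inv (pb i cL) := by
    intro b
    have e : (𝟙 B * (toUnit B ≫ b)) ≫ i = i ≫ tr (b ≫ i) := by
      simp only [tr]
      rw [MonObj.mul_comp, MonObj.comp_mul, Category.id_comp, Category.comp_id, Category.assoc, comp_toUnit_assoc]
    rw [pb_pb, e, ← pb_pb, mul_inv_eq_one.1 (hphiB b)]
  -- the class splits on `B × C`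
  have hboxL : pb σ cL = boxC (pb i cL) (pb j cL) := by
    obtain ⟨N, hN, hd⟩ := PicGrp.exists_eq_cls (pb (lift (snd C B) (fst C B)) (pb σ cL * (boxC (pb i cL) (pb j cL))⁻¹))
    have ht : IsTriv N := by
      refine isTriv_of_point_slices (1 : 𝟙_ _ ⟶ C) finH1 N hN (fun t => ?_) ?_
      · rw [isTriv_iff _ hN, ← hd]
        simp only [σ, boxC, map_mul, map_inv, pb_pb, MonObj.comp_mul, comp_lift_assoc, lift_fst, lift_snd,
          lift_fst_assoc, lift_snd_assoc, Category.id_comp, Category.assoc, pb_const, _root_.one_mul]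
        have e : (toUnit C ≫ t ≫ i) * j = j ≫ tr (t ≫ i) := by
          simp only [tr]
          rw [MonObj.comp_mul, Category.comp_id, comp_toUnit_assoc, mul_comm]
        rw [e, ← pb_pb, mul_inv_eq_one.1 (hphiB t), mul_inv_cancel]
      · rw [isTriv_iff _ hN, ← hd]
        simp only [σ, boxC, map_mul, map_inv, pb_pb, MonObj.comp_mul, comp_lift_assoc, lift_fst, lift_snd,
          lift_fst_assoc, lift_snd_assoc, Category.id_comp, Category.assoc, pb_const, MonObj.one_comp,
          MonObj.comp_one, _root_.mul_one]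
        rw [show pb (1 : B ⟶ A) cL = 1 by rw [← MonObj.comp_one (toUnit B), pb_const], _root_.mul_one, mul_inv_cancel]
    have h1 := hd.trans ((PicGrp.cls_eq_one_iff _).2 ht)
    have h2 := congrArg (pb (lift (snd B C) (fst B C))) h1
    rw [pb_pb, comp_lift, lift_fst, lift_snd, lift_fst_snd, pb_id, map_one] at h2
    exact mul_inv_eq_one.1 h2
  -- nondegeneracy on the complement
  have hndC : Nd (pb j cL) := by
    obtain ⟨nK, N, hN⟩ := exists_finite_kernel σ
    let S := {x : 𝟙_ (Over (Spec (CommRingCat.of k))) ⟶ C | pb (tr x) (pb j cL) = pb j cL}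
    show S.Finite
    have hfin : {c : PicLoc.PicSet A.left | ∃ t, c.1 = PicF.cl (N t)}.Finite := by
      refine Set.Finite.of_finite_image (f := fun c => c.1) ((Set.finite_range fun t => PicF.cl (N t)).subset ?_)
        Subtype.val_injective.injOn
      rintro _ ⟨c, ⟨t, ht⟩, rfl⟩
      exact ⟨t, ht.symm⟩
    refine Set.Finite.of_finite_fibers (fun x => phi cL (x ≫ j)) (hfin.subset ?_) fun c hc => ?_
    · rintro _ ⟨x, hx, rfl⟩
      obtain ⟨M, hM, hMc⟩ := PicGrp.exists_eq_cls (phi cL (x ≫ j))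
      have hσx : pb σ (phi cL (x ≫ j)) = 1 := by
        have e : σ ≫ tr (x ≫ j) = (fst B C ≫ i) * ((snd B C ≫ tr x) ≫ j) := by
          simp only [tr, σ]
          rw [MonObj.comp_mul, Category.comp_id, comp_toUnit_assoc, MonObj.comp_mul, Category.comp_id,
            comp_toUnit_assoc, MonObj.mul_comp, Category.assoc, _root_.mul_assoc]
        have e' : (fst B C ≫ i) * ((snd B C ≫ tr x) ≫ j) = lift (fst B C) (snd B C ≫ tr x) ≫ σ := by
          simp only [σ]
          rw [MonObj.comp_mul (lift (fst B C) (snd B C ≫ tr x)), lift_fst_assoc, lift_snd_assoc]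
        rw [phi_apply, map_mul, map_inv, pb_pb, e, e', ← pb_pb, hboxL]
        simp only [boxC, map_mul, pb_pb, lift_fst_assoc, lift_snd_assoc]
        rw [← pb_pb (snd B C ≫ tr x) j, ← pb_pb (snd B C) (tr x), show pb (tr x) (pb j cL) = pb j cL from hx, pb_pb,
          mul_inv_cancel]
      obtain ⟨t, ⟨et⟩⟩ := hN M hM (hMc ▸ inv_translate_div cL (x ≫ j)) ((PicGrp.cls_eq_one_iff
        (PicLoc.isInvertible_pullback σ.left hM)).1 (by
          rw [← PicGrp.pullHom_cls _ (M2.pullMul _) _ hM, ← hMc]; exact hσx))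
      exact ⟨t, by show (phi cL (x ≫ j)).1 = _; rw [hMc, PicGrp.cls_val]; exact (PicGrp.cl_eq_cl_iff _ _).2 ⟨et⟩⟩
    · obtain ⟨x₀, -, rfl⟩ := hc
      refine ((finite_points_inter i j hZc hdiv hiZ hr hZr).image fun y => y * x₀).subset fun x hx => ?_
      refine ⟨x * x₀⁻¹, ?_, inv_mul_cancel_right _ _⟩
      rw [Set.mem_setOf_eq, hZ, MonObj.mul_comp, GrpObj.inv_comp, map_mul, map_inv]
      exact mul_inv_eq_one.2 hx.2
  -- the polynomials
  set LC := (Scheme.Modules.pullback j.left).obj L
  set HC := (Scheme.Modules.pullback j.left).obj H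
  have hLC : PicF.IsInvertible LC := PicLoc.isInvertible_pullback _ hL
  have hHC : PicF.IsInvertible HC := PicLoc.isInvertible_pullback _ hH.1
  have hLCc : PicGrp.cls LC hLC = pb j cL := (PicGrp.pullHom_cls _ _ _ _).symm
  have hHCc : PicGrp.cls HC hHC = pb j cH := (PicGrp.pullHom_cls _ _ _ _).symm
  obtain ⟨P, hP⟩ := exists_hilbert hLC hHC
  obtain ⟨m, hm, -, -⟩ := IsogEuler22.exists_free σ
  have hm0 : m ≠ 0 := fun h0 => by
    have := Scheme.Hom.one_le_finrank_map σ.left (η[B ⊗ C].left (IsLocalRing.closedPoint k))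
    rw [hm, h0] at this
    omega
  have hB0 : chi HB ≠ 0 := chi_ne_zero_of_nd hHB.1 (finite_fixing hHB)
  have key : Polynomial.C (m : ℚ) * Φ = Polynomial.C (chi HB : ℚ) * Polynomial.X ^ r * P := by
    refine RR22.poly_ext 1 fun n hn => ?_
    rw [Polynomial.eval_mul, Polynomial.eval_C, Polynomial.eval_mul, Polynomial.eval_mul, Polynomial.eval_C,
      Polynomial.eval_pow, Polynomial.eval_X, hΦ, hP]
    have hT := M2.isInvertible_tensor hL (M2.isInvertible_tensorPow hH.1 n)
    obtain ⟨WB, hWB, hWBc⟩ := PicGrp.exists_eq_cls (pb i cL * pb i cH ^ n)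
    have hWC := M2.isInvertible_tensor hLC (M2.isInvertible_tensorPow hHC n)
    have h1 := RR22.euler_box (A := B) (B := C) hWB hWC (PicLoc.isInvertible_pullback σ.left hT) (by
      rw [← PicGrp.pullHom_cls _ (M2.pullMul _) _ hT, Hilb13.cls_tensor hL (M2.isInvertible_tensorPow hH.1 n), cls_pow hH.1,
        Hilb13.cls_tensor hLC (M2.isInvertible_tensorPow hHC n), cls_pow hHC, hLCc, hHCc, ← hWBc]
      show pb σ (cL * cH ^ n) = _
      rw [map_mul, map_pow, hboxL, hbox, boxC, boxC, map_mul, map_mul, map_pow, map_pow, _root_.mul_pow,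
        mul_mul_mul_comm])
    rw [IsogEuler22.euler_pullback σ m hm (CubeField.isCoh_of_isInvertible hT)] at h1
    have h2 := chi_inv_tensor_pow hHB hInvB hr (show 0 < n by omega) hWB (by rw [← hWBc, hHBc])
    change (m : ℤ) * chi (CohB1.tensorMod L (CohB1.tensorPow H n)) = chi WB * chi _ at h1
    rw [h2] at h1
    have h3 := congrArg (fun z : ℤ => (z : ℚ)) h1
    push_cast at h3
    linarith
  have hP0 : P.eval 0 ≠ 0 := by
    have h00 := hP 0
    rw [Nat.cast_zero] at h00
    rw [h00, Int.cast_ne_zero,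
      chi_congr (M2.isInvertible_tensor hLC (M2.isInvertible_tensorPow hHC 0)) hLC (by
        rw [Hilb13.cls_tensor hLC (M2.isInvertible_tensorPow hHC 0), cls_pow hHC, pow_zero, _root_.mul_one])]
    exact chi_ne_zero_of_nd hLC (hLCc ▸ hndC)
  have hPne : P ≠ 0 := fun h => hP0 (by rw [h, Polynomial.eval_zero])
  have hmQ : (m : ℚ) ≠ 0 := Nat.cast_ne_zero.2 hm0
  have hBQ : (chi HB : ℚ) ≠ 0 := Int.cast_ne_zero.2 hB0
  have h0 := congrArg (fun p => Polynomial.rootMultiplicity (0 : ℚ) p) key
  have hΦne : Φ ≠ 0 := fun h => by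
    rw [h, MulZeroClass.mul_zero, eq_comm, mul_eq_zero, mul_eq_zero] at key
    rcases key with (h' | h') | h'
    · exact hBQ (Polynomial.C_eq_zero.1 h')
    · exact pow_ne_zero _ Polynomial.X_ne_zero h'
    · exact hPne h'
  rw [Polynomial.rootMultiplicity_mul (mul_ne_zero (by simpa using hm0) hΦne),
    Polynomial.rootMultiplicity_mul (mul_ne_zero (mul_ne_zero (by simpa using hB0) (pow_ne_zero _ Polynomial.X_ne_zero)) hPne),
    Polynomial.rootMultiplicity_mul (mul_ne_zero (by simpa using hB0) (pow_ne_zero _ Polynomial.X_ne_zero)),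
    Polynomial.rootMultiplicity_C, Polynomial.rootMultiplicity_C,
    Polynomial.rootMultiplicity_eq_zero (p := P) hP0] at h0
  rw [show (Polynomial.X : Polynomial ℚ) ^ r = (Polynomial.X - Polynomial.C 0) ^ r by simp,
    Polynomial.rootMultiplicity_X_sub_C_pow] at h0
  have : Φ.rootMultiplicity 0 = r := by omega
  rw [this]

end Groth.Agent.KLDim13
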