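import Groth.Agent.Lib.KLDim13.Dim
import Groth.Agent.Lib.RR22.Classify

/-!
# The dimension of `K(L)`
-/

universe u

open CategoryTheory Limits MonoidalCategory CartesianMonoidalCategory AlgebraicGeometry TopologicalSpace Opposite
open scoped MonObj GrpObj CategoryTheory.Obj

set_option autoImplicit false
set_option linter.style.haveILetI false
set_option linter.unusedSectionVars false
set_option maxHeartbeats 1000000
set_option backward.isDefEq.respectTransparency false
set_option backward.isDefEq.respectTransparency.types false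

noncomputable section

namespace Groth.Agent.KLDim13

open AlgEquiv22 MumVan22 Index22 CubeField Hilb13

noncomputable local instance instLawKLDimFinal13 (Y : Scheme.{u}) : PicGrp.Law Y := M2.law Y

variable {k : Type u} [Field k] {A : Over (Spec (CommRingCat.of k))} [GrpObj A] [IsProper A.hom]
  [GeometricallyIntegral A.hom]

/-- The points of `K(L)`. -/
theorem rpt_mem_range_iff [IsAlgClosed k] {L : A.left.Modules} (hL : PicF.IsInvertible L)
    {K : Over (Spec (CommRingCat.of k))} {i : K ⟶ A} (hK : ThetaGrp.IsKL A L i)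
    (a : 𝟙_ (Over (Spec (CommRingCat.of k))) ⟶ A) :
    rpt a ∈ Set.range i.left ↔ phi (PicGrp.cls L hL) a = 1 := by
  haveI := hK.closed
  haveI : IsProper K.hom := by rw [← Over.w i]; infer_instance
  rw [phi_apply, mul_inv_eq_one]
  constructor
  · intro ha
    obtain ⟨b, rfl⟩ := exists_point_lift i a ha
    have h := add_of_crit (crit_of_isKL hL hK (toUnit A ≫ b)) (𝟙 A) (𝟙 A)
    simp only [RRKL13.P_eq, Category.id_comp, Category.assoc] at h
    show pb (𝟙 A * (toUnit A ≫ b ≫ i)) (PicGrp.cls L hL) = _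
    rw [h, pb_id, ← pb_pb (toUnit A) (b ≫ i), point_eq_one (pb (b ≫ i) _), map_one, _root_.mul_one]
  · intro ha
    obtain ⟨w, hw⟩ := (hK.univ _ a).1 ((isMumfordTriv_iff hL a).2 (by
      simp only [RRKL13.P_eq]
      rw [← pb_pb (snd A _) a, point_eq_one (pb a _), map_one, _root_.mul_one]
      have e : fst A (𝟙_ (Over (Spec (CommRingCat.of k)))) * (snd A (𝟙_ (Over (Spec (CommRingCat.of k)))) ≫ a) =
          fst A (𝟙_ (Over (Spec (CommRingCat.of k)))) ≫ (𝟙 A * (toUnit A ≫ a)) := by
        rw [MonObj.comp_mul, Category.comp_id, comp_toUnit_assoc,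
          toUnit_unique (toUnit (A ⊗ 𝟙_ (Over (Spec (CommRingCat.of k))))) (snd A _)]
      rw [e, ← pb_pb, show pb (𝟙 A * (toUnit A ≫ a)) (PicGrp.cls L hL) = PicGrp.cls L hL from ha]))
    exact ⟨rpt w, by rw [← rpt_comp, hw]⟩

/-- The dimension of `K(L)` over any field. -/
theorem dim_KL {L H : A.left.Modules} (hL : PicF.IsInvertible L) (hH : CohB1.IsAmple H)
    {K : Over (Spec (CommRingCat.of k))} {i : K ⟶ A} (hK : ThetaGrp.IsKL A L i) {Φ : Polynomial ℚ}
    (hΦ : ∀ n : ℕ, Φ.eval (n : ℚ) = (chi (CohB1.tensorMod L (CohB1.tensorPow H n)) : ℚ)) :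
    topologicalKrullDim K.left = ((Φ.rootMultiplicity 0 : ℕ) : WithBot ℕ∞) := by
  haveI := hK.closed
  haveI : IsProper K.hom := by rw [← Over.w i]; infer_instance
  have hKb := RRKL13.isKL_bar hL hK
  set ib := (Over.pullback (φbar k)).map i
  haveI : IsClosedImmersion ib.left := hKb.closed
  haveI : IsAffineHom (prj A) := MorphismProperty.pullback_fst _ _ inferInstance
  rw [← topologicalKrullDim_bar (A := K),
    show topologicalKrullDim (bar K).left = topologicalKrullDim (Set.range ib.left) from
      (ib.left.isEmbedding.toHomeomorph).isHomeomorph.topologicalKrullDim_eq]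
  have hLb := PicLoc.isInvertible_pullback (prj A) hL
  refine dim_eq_rootMultiplicity (A := bar A) hLb (Amp.isAmple_pullback_of_isAffineHom (prj A) hH) (fun n => ?_)
    ib.left.isClosedEmbedding.isClosed_range (rpt_mem_range_iff hLb hKb)
  have hT := M2.isInvertible_tensor hL (M2.isInvertible_tensorPow hH.1 n)
  rw [hΦ, chi, chi, ← RR22.euler_bar hT, Int.cast_inj]
  exact chi_congr (A := bar A) (PicLoc.isInvertible_pullback _ hT)
    (M2.isInvertible_tensor hLb (M2.isInvertible_tensorPow (PicLoc.isInvertible_pullback _ hH.1) n))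
    ((PicGrp.cls_eq_cls_iff _ _).2
      ⟨M2.pullTensorIso (prj A) _ _ ≪≫ M2.tensorIso (Iso.refl _) (M2.pullTensorPowIso (prj A) H n)⟩)

end Groth.Agent.KLDim13
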