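import Groth.Agent.Lib.Index22.Complement
import Groth.Agent.Lib.RRKL13.BaseChange
import Groth.Agent.Lib.Snapper.Main
import Groth.Agent.Lib.Snapper.Positive
import Groth.Agent.Lib.MumVan22.Apps
import Groth.Agent.Lib.AmpleFin18.GenCurves

/-!
# Splitting off the connected part of `K(L)`

Over an algebraically closed field, the points fixing a class `c` contain a subgroup variety `B` of
full dimension, and on a complement `C` of `B` the class is nondegenerate.
-/

universe u

open CategoryTheory Limits MonoidalCategory CartesianMonoidalCategory AlgebraicGeometry TopologicalSpace Opposite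
open scoped MonObj GrpObj

set_option autoImplicit false
set_option linter.style.haveILetI false
set_option linter.unusedSectionVars false
set_option maxHeartbeats 1000000
set_option backward.isDefEq.respectTransparency false
set_option backward.isDefEq.respectTransparency.types false

noncomputable section

namespace Groth.Agent.KLDim13

open AlgEquiv22 MumVan22 Index22 CubeField

noncomputable local instance instLawKLDim13 (Y : Scheme.{u}) : PicGrp.Law Y := M2.law Y

variable {k : Type u} [Field k] [IsAlgClosed k] {A : Over (Spec (CommRingCat.of k))} [GrpObj A]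
  [IsProper A.hom] [GeometricallyIntegral A.hom]

/-- A translation. -/
abbrev tr (a : 𝟙_ (Over (Spec (CommRingCat.of k))) ⟶ A) : A ⟶ A := 𝟙 A * (toUnit A ≫ a)

omit [IsAlgClosed k] [IsProper A.hom] [GeometricallyIntegral A.hom] in
theorem tr_comp (a b : 𝟙_ (Over (Spec (CommRingCat.of k))) ⟶ A) : tr a ≫ tr b = tr (a * b) := by
  simp only [tr]
  rw [MonObj.comp_mul, Category.comp_id, comp_toUnit_assoc, _root_.mul_assoc, ← MonObj.comp_mul]

omit [IsAlgClosed k] [IsProper A.hom] [GeometricallyIntegral A.hom] in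
theorem tr_one : tr (1 : 𝟙_ (Over (Spec (CommRingCat.of k))) ⟶ A) = 𝟙 A := by
  simp only [tr]
  rw [MonObj.comp_one, _root_.mul_one]

omit [IsAlgClosed k] [IsProper A.hom] [GeometricallyIntegral A.hom] in
theorem isIso_tr (a : 𝟙_ (Over (Spec (CommRingCat.of k))) ⟶ A) : IsIso (tr a).left := by
  haveI : IsIso (tr a) := ⟨tr a⁻¹, by rw [tr_comp, mul_inv_cancel, tr_one], by rw [tr_comp, inv_mul_cancel, tr_one]⟩
  exact inferInstanceAs (IsIso ((Over.forget _).map (tr a)))

omit [IsAlgClosed k] [IsProper A.hom] [GeometricallyIntegral A.hom] in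
theorem point_comp_tr (b a : 𝟙_ (Over (Spec (CommRingCat.of k))) ⟶ A) : b ≫ tr a = b * a := by
  simp only [tr]
  rw [MonObj.comp_mul, Category.comp_id, comp_toUnit_assoc,
    toUnit_unique (toUnit _) (𝟙 (𝟙_ (Over (Spec (CommRingCat.of k))))), Category.id_comp]

omit [IsAlgClosed k] [IsProper A.hom] [GeometricallyIntegral A.hom] in
theorem tr_left_rpt (b a : 𝟙_ (Over (Spec (CommRingCat.of k))) ⟶ A) : (tr a).left (rpt b) = rpt (b * a) := by
  rw [← rpt_comp, point_comp_tr]

/-- `a ↦ t_a^* c / c`. -/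
def phi (c : PicLoc.PicSet A.left) : (𝟙_ (Over (Spec (CommRingCat.of k))) ⟶ A) →* PicLoc.PicSet A.left :=
  MonoidHom.mk' (fun a => pb (tr a) c * c⁻¹) fun a b => by
    haveI := isCommMonObj_of_isProper_of_geometricallyIntegral A
    have h1 := inv_translate_div c b a
    rw [map_mul, map_inv, pb_pb, tr_comp] at h1
    rw [mul_inv_eq_iff_eq_mul.1 h1]
    rw [mul_comm (pb (tr b) c * c⁻¹) (pb (tr a) c), mul_right_comm]

theorem phi_apply (c : PicLoc.PicSet A.left) (a : 𝟙_ (Over (Spec (CommRingCat.of k))) ⟶ A) :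
    phi c a = pb (tr a) c * c⁻¹ := rfl

/-- A closed point of a set. -/
theorem closed_subset_of_points {T S : Set A.left} (hT : IsClosed T) (hS : IsClosed S)
    (h : ∀ b : 𝟙_ (Over (Spec (CommRingCat.of k))) ⟶ A, rpt b ∈ T → rpt b ∈ S) : T ⊆ S := by
  haveI : JacobsonSpace A.left := LocallyOfFiniteType.jacobsonSpace A.hom
  rw [← closure_inter_closedPoints hT]
  refine closure_minimal (fun x hx => ?_) hS
  obtain ⟨b, rfl⟩ := exists_rpt (X := A) hx.2
  exact h b hx.1

omit [GrpObj A] [IsAlgClosed k] [IsProper A.hom] [GeometricallyIntegral A.hom] in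
theorem eq_of_dim_le {T S : Set A.left} (hT : IsClosed T) (hS : IsClosed S) (hSi : IsIrreducible S) (hTS : T ⊆ S)
    (hTne : T.Nonempty) {d : ℕ} (hdT : topologicalKrullDim T = (d : WithBot ℕ∞))
    (hdS : topologicalKrullDim S ≤ (d : WithBot ℕ∞)) : T = S := by
  by_contra hne
  have hcl := hSi.closure_genericPoint hS
  have hη : hSi.genericPoint ∉ T := fun h => hne (hTS.antisymm
    (hcl ▸ hT.closure_subset_iff.2 (Set.singleton_subset_iff.2 h)))
  have hd' : topologicalKrullDim (closure ({hSi.genericPoint} : Set A.left)) ≤ (d : WithBot ℕ∞) := by rw [hcl]; exact hdS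
  have hsub : T ⊆ closure {hSi.genericPoint} := hcl.symm ▸ hTS
  rcases d with _ | d
  · exact hTne.ne_empty (Snapper.eq_empty_of_notMem hT hsub hη (by simpa using hd'))
  · have := Snapper.dim_le_of_notMem hT hsub hη hd'
    rw [hdT] at this
    have : d + 1 ≤ d := by exact_mod_cast this
    omega

theorem dim_translate {T : Set A.left} (a : 𝟙_ (Over (Spec (CommRingCat.of k))) ⟶ A) :
    topologicalKrullDim ((tr a).left '' T : Set A.left) = topologicalKrullDim T := by
  haveI := isIso_tr a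
  exact ((tr a).left.homeomorph.image T).isHomeomorph.topologicalKrullDim_eq.symm

omit [IsAlgClosed k] [IsProper A.hom] [GeometricallyIntegral A.hom] [GrpObj A] in
theorem dim_sUnion_le {d : WithBot ℕ∞} {𝒮 : Set (Set A.left)} (hf : 𝒮.Finite) (hc : ∀ T ∈ 𝒮, IsClosed T)
    (h : ∀ T ∈ 𝒮, topologicalKrullDim T ≤ d) : topologicalKrullDim (⋃₀ 𝒮 : Set A.left) ≤ d := by
  induction 𝒮, hf using Set.Finite.induction_on with
  | empty =>
    haveI : IsEmpty (⋃₀ (∅ : Set (Set A.left)) : Set A.left) := by simp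
    haveI : IsEmpty (IrreducibleCloseds (⋃₀ (∅ : Set (Set A.left)) : Set A.left)) :=
      ⟨fun p => isEmptyElim p.isIrreducible.nonempty.some⟩
    rw [topologicalKrullDim, Order.krullDim_eq_bot]
    exact bot_le
  | @insert T 𝒯 _ hf' ih =>
    rw [Set.sUnion_insert]
    exact Snapper.dim_union_le (hc T (Set.mem_insert _ _))
      (by rw [Set.sUnion_eq_biUnion]; exact hf'.isClosed_biUnion fun S hS => hc S (Set.mem_insert_of_mem _ hS))
      (h T (Set.mem_insert _ _))
      (ih (fun S hS => hc S (Set.mem_insert_of_mem _ hS)) fun S hS => h S (Set.mem_insert_of_mem _ hS))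

/-- **A subgroup variety of full dimension in a closed subgroup.** -/
theorem exists_subgroup_full {Z : Set A.left} (hZc : IsClosed Z) (h1 : rpt (1 : 𝟙_ _ ⟶ A) ∈ Z)
    (hdiv : ∀ a b : 𝟙_ (Over (Spec (CommRingCat.of k))) ⟶ A, rpt a ∈ Z → rpt b ∈ Z → rpt (a * b⁻¹) ∈ Z) :
    ∃ (B : Over (Spec (CommRingCat.of k))) (_ : GrpObj B) (_ : IsProper B.hom) (_ : GeometricallyIntegral B.hom)
      (i : B ⟶ A) (_ : IsMonHom i), IsClosedImmersion i.left ∧ Set.range i.left ⊆ Z ∧
      topologicalKrullDim B.left = topologicalKrullDim Z := by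
  classical
  haveI := isCommMonObj_of_isProper_of_geometricallyIntegral A
  haveI : JacobsonSpace A.left := LocallyOfFiniteType.jacobsonSpace A.hom
  haveI : CompactSpace A.left := QuasiCompact.compactSpace_of_compactSpace A.hom
  haveI : IsLocallyNoetherian A.left := LocallyOfFiniteType.isLocallyNoetherian A.hom
  haveI : AlgebraicGeometry.IsNoetherian A.left := {}
  obtain ⟨𝒮, h𝒮f, h𝒮c, h𝒮i, h𝒮eq⟩ := NoetherianSpace.exists_finite_set_isClosed_irreducible hZc
  have h𝒮ne : 𝒮.Nonempty := by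
    obtain ⟨W, hW, -⟩ := (h𝒮eq ▸ h1 : rpt (1 : 𝟙_ _ ⟶ A) ∈ ⋃₀ 𝒮)
    exact ⟨W, hW⟩
  obtain ⟨W, hW, hmax⟩ := h𝒮f.toFinset.exists_max_image (fun T => topologicalKrullDim T)
    (h𝒮f.toFinset_nonempty.2 h𝒮ne)
  rw [h𝒮f.mem_toFinset] at hW
  have hWd : topologicalKrullDim W = topologicalKrullDim Z := by
    refine le_antisymm (Snapper.dim_le_of_subset (h𝒮eq ▸ Set.subset_sUnion_of_mem hW) le_rfl) ?_
    rw [h𝒮eq]
    exact dim_sUnion_le h𝒮f h𝒮c fun T hT => hmax T (h𝒮f.mem_toFinset.2 hT)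
  obtain ⟨z, hz, hzc⟩ := nonempty_inter_closedPoints (Z := W) (h𝒮i W hW).nonempty (h𝒮c W hW).isLocallyClosed
  obtain ⟨f, rfl⟩ := exists_rpt (X := A) hzc
  obtain ⟨R, hRi, hRS, h1R, hRdiv, -⟩ := exists_irreducible_div hZc hdiv (h𝒮c W hW) (h𝒮i W hW)
    (h𝒮eq ▸ Set.subset_sUnion_of_mem hW)
  set T := closure R with hT
  have hTS : T ⊆ Z := hZc.closure_subset_iff.2 hRS
  have hTd : topologicalKrullDim T = topologicalKrullDim Z := by
    refine le_antisymm (Snapper.dim_le_of_subset hTS le_rfl) ?_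
    rw [← hWd, ← dim_translate (T := W) f⁻¹]
    haveI := isIso_tr f⁻¹
    refine Snapper.dim_le_of_subset (closed_subset_of_points
      (((tr f⁻¹).left.homeomorph.isClosed_image).2 (h𝒮c W hW)) isClosed_closure fun b hb => ?_) le_rfl
    obtain ⟨x, hx, hxb⟩ := hb
    have hbx : x = rpt (b * f) := (tr f⁻¹).left.homeomorph.injective (by
      show (tr f⁻¹).left x = (tr f⁻¹).left (rpt (b * f))
      exact (show (tr f⁻¹).left x = rpt b from hxb).trans (by rw [tr_left_rpt, mul_inv_cancel_right]))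
    have := hRdiv (b * f) f (hbx ▸ hx) hz
    rw [mul_inv_cancel_right] at this
    exact subset_closure this
  obtain ⟨d, hd⟩ : ∃ d : ℕ, topologicalKrullDim T = (d : WithBot ℕ∞) := by
    haveI : IsIntegral A.left := GeometricallyIntegral.isIntegral_of_subsingleton A.hom
    obtain ⟨g, hg⟩ := Index22.exists_dim (A := A)
    haveI : Nonempty T := ⟨⟨_, subset_closure h1R⟩⟩
    haveI : Nonempty (IrreducibleCloseds T) :=
      ⟨⟨closure {Classical.arbitrary _}, isIrreducible_singleton.closure, isClosed_closure⟩⟩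
    obtain ⟨d, hd, -⟩ : ∃ d : ℕ, topologicalKrullDim T = (d : WithBot ℕ∞) ∧ True := by
      obtain ⟨d, hd⟩ := AmpleFin18.mem_natCast_or_top (topologicalKrullDim T) g Order.krullDim_nonneg
        (Topology.IsInducing.subtypeVal.topologicalKrullDim_le.trans hg.le)
      exact ⟨d, hd, trivial⟩
    exact ⟨d, hd⟩
  have hTdiv : ∀ a b : 𝟙_ (Over (Spec (CommRingCat.of k))) ⟶ A, rpt a ∈ T → rpt b ∈ T → rpt (a * b⁻¹) ∈ T := by
    intro a b ha hb
    obtain ⟨R', hR'i, hR'S, -, hR'div, hTR'⟩ :=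
      exists_irreducible_div hZc hdiv isClosed_closure hRi.closure hTS
    have hsub : T ⊆ closure R' := (hTR' (subset_closure h1R)).trans subset_closure
    have heq : T = closure R' := eq_of_dim_le isClosed_closure isClosed_closure hR'i.closure hsub
      ⟨_, subset_closure h1R⟩ hd (hd ▸ hTd ▸ Snapper.dim_le_of_subset (hZc.closure_subset_iff.2 hR'S) le_rfl)
    rw [heq]
    exact subset_closure (hR'div a b ha hb)
  obtain ⟨B, gB, hBg, i, hi, hci, hrange⟩ :=
    exists_subgroup_of_isClosed (A := A) isClosed_closure hRi.closure (subset_closure h1R) hTdiv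
  haveI := hci
  haveI : IsProper B.hom := by rw [← Over.w i]; infer_instance
  refine ⟨B, gB, inferInstance, hBg, i, hi, hci, hrange ▸ hTS, ?_⟩
  rw [← hTd, ← (show Set.range i.left = T from hrange)]
  exact (i.left.isEmbedding.toHomeomorph).isHomeomorph.topologicalKrullDim_eq

variable {B C : Over (Spec (CommRingCat.of k))} [GrpObj B] [IsProper B.hom] [GeometricallyIntegral B.hom]
  [GrpObj C] [IsProper C.hom] [GeometricallyIntegral C.hom] (i : B ⟶ A) [IsMonHom i] (j : C ⟶ A) [IsMonHom j]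

/-- A complement meets a closed subgroup of the same dimension as `B` in finitely many points. -/
theorem finite_points_inter {Z : Set A.left} (hZc : IsClosed Z)
    (hdiv : ∀ a b : 𝟙_ (Over (Spec (CommRingCat.of k))) ⟶ A, rpt a ∈ Z → rpt b ∈ Z → rpt (a * b⁻¹) ∈ Z)
    [IsClosedImmersion i.left] (hiZ : Set.range i.left ⊆ Z) {r : ℕ} (hr : topologicalKrullDim B.left = r)
    (hZr : topologicalKrullDim Z = r) [IsMonHom ((fst B C ≫ i) * (snd B C ≫ j))]
    [IsFinite ((fst B C ≫ i) * (snd B C ≫ j)).left] :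
    {x : 𝟙_ (Over (Spec (CommRingCat.of k))) ⟶ C | rpt (x ≫ j) ∈ Z}.Finite := by
  classical
  haveI := isCommMonObj_of_isProper_of_geometricallyIntegral A
  haveI : CompactSpace A.left := QuasiCompact.compactSpace_of_compactSpace A.hom
  haveI : IsLocallyNoetherian A.left := LocallyOfFiniteType.isLocallyNoetherian A.hom
  haveI : AlgebraicGeometry.IsNoetherian A.left := {}
  haveI : IsIntegral B.left := GeometricallyIntegral.isIntegral_of_subsingleton B.hom
  set σ := (fst B C ≫ i) * (snd B C ≫ j) with hσ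
  obtain ⟨𝒮, h𝒮f, h𝒮c, h𝒮i, h𝒮eq⟩ := NoetherianSpace.exists_finite_set_isClosed_irreducible hZc
  let Y := Set.range i.left
  have hYc : IsClosed Y := i.left.isClosedEmbedding.isClosed_range
  have hYi : IsIrreducible Y := by
    simpa [Y, Set.image_univ] using (IrreducibleSpace.isIrreducible_univ B.left).image _ i.left.continuous.continuousOn
  have hYd : topologicalKrullDim Y = r :=
    ((i.left.isEmbedding.toHomeomorph).isHomeomorph.topologicalKrullDim_eq).symm.trans hr
  let S := {x : 𝟙_ (Over (Spec (CommRingCat.of k))) ⟶ C | rpt (x ≫ j) ∈ Z}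
  have htrans : ∀ x ∈ S, (tr (x ≫ j)).left '' Y ∈ 𝒮 := by
    intro x hx
    haveI := isIso_tr (x ≫ j)
    have hsub : (tr (x ≫ j)).left '' Y ⊆ Z := by
      refine closed_subset_of_points (((tr (x ≫ j)).left.homeomorph.isClosed_image).2 hYc) hZc fun b hb => ?_
      obtain ⟨y, hy, hyb⟩ := hb
      have hby : y = rpt (b * (x ≫ j)⁻¹) := (tr (x ≫ j)).left.homeomorph.injective (by
        show (tr (x ≫ j)).left y = (tr (x ≫ j)).left (rpt (b * (x ≫ j)⁻¹))
        exact (show (tr (x ≫ j)).left y = rpt b from hyb).trans (by rw [tr_left_rpt, inv_mul_cancel_right]))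
      have h1 : rpt (1 : 𝟙_ _ ⟶ A) ∈ Z := by simpa using hdiv _ _ hx hx
      have h2 := hdiv _ _ (hiZ (hby ▸ hy)) (by simpa using hdiv _ _ h1 hx)
      simpa using h2
    have hirr : IsIrreducible ((tr (x ≫ j)).left '' Y) := hYi.image _ (tr (x ≫ j)).left.continuous.continuousOn
    obtain ⟨T, hT, hsubT⟩ := isIrreducible_iff_sUnion_isClosed.1 hirr h𝒮f.toFinset
      (fun T hT => h𝒮c T (h𝒮f.mem_toFinset.1 hT)) (by rw [h𝒮f.coe_toFinset, ← h𝒮eq]; exact hsub)
    rw [h𝒮f.mem_toFinset] at hT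
    have heq := eq_of_dim_le (T := (tr (x ≫ j)).left '' Y) (((tr (x ≫ j)).left.homeomorph.isClosed_image).2 hYc) (h𝒮c T hT) (h𝒮i T hT) hsubT
      hirr.nonempty ((dim_translate _).trans hYd)
      ((Snapper.dim_le_of_subset (h𝒮eq ▸ Set.subset_sUnion_of_mem hT) le_rfl).trans hZr.le)
    exact heq.symm ▸ hT
  have hker : {x : 𝟙_ (Over (Spec (CommRingCat.of k))) ⟶ B ⊗ C | x ≫ σ = 1}.Finite := by
    refine Set.Finite.of_finite_image (f := rpt) ((σ.left.finite_preimage_singleton (rpt (1 : 𝟙_ _ ⟶ A))).subset ?_)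
      rpt_injective.injOn
    rintro _ ⟨x, hx, rfl⟩
    show σ.left (rpt x) = rpt 1
    rw [← rpt_comp, hx]
  refine Set.Finite.of_finite_fibers (fun x => (tr (x ≫ j)).left '' Y) (h𝒮f.subset (Set.image_subset_iff.2 htrans))
    fun T hT => ?_
  obtain ⟨x₀, hx₀, rfl⟩ := hT
  refine (hker.image fun p => (p ≫ snd B C) * x₀).subset fun x hx => ?_
  have hx2 : (tr (x ≫ j)).left '' Y = (tr (x₀ ≫ j)).left '' Y := hx.2
  have h1Y : rpt (1 : 𝟙_ _ ⟶ A) ∈ Y := ⟨rpt 1, by rw [← rpt_comp, MonObj.one_comp]⟩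
  have hmem : rpt (x ≫ j) ∈ (tr (x₀ ≫ j)).left '' Y := hx2 ▸ ⟨rpt 1, h1Y, by rw [tr_left_rpt, _root_.one_mul]⟩
  obtain ⟨_, ⟨y, rfl⟩, hy⟩ := hmem
  haveI := isIso_tr (x₀ ≫ j)
  have hyb : i.left y = rpt ((x ≫ j) * (x₀ ≫ j)⁻¹) := (tr (x₀ ≫ j)).left.homeomorph.injective (by
    show (tr (x₀ ≫ j)).left (i.left y) = (tr (x₀ ≫ j)).left (rpt _)
    rw [hy, tr_left_rpt, inv_mul_cancel_right])
  obtain ⟨b, hb⟩ := exists_point_lift i _ ⟨y, hyb⟩
  refine ⟨lift b⁻¹ (x * x₀⁻¹), ?_, by show (lift b⁻¹ (x * x₀⁻¹) ≫ snd B C) * x₀ = x; rw [lift_snd, inv_mul_cancel_right]⟩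
  show lift b⁻¹ (x * x₀⁻¹) ≫ σ = 1
  rw [hσ, MonObj.comp_mul, lift_fst_assoc, lift_snd_assoc, GrpObj.inv_comp, hb, MonObj.mul_comp, GrpObj.inv_comp,
    inv_mul_cancel]

end Groth.Agent.KLDim13
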